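import Mathlib.AlgebraicGeometry.OpenImmersion
import Mathlib.AlgebraicGeometry.Pullbacks
import Mathlib.AlgebraicGeometry.Gluing
import Mathlib.AlgebraicGeometry.Cover.Open
import Mathlib.RingTheory.Localization.Away.Basic

/-!
Morphisms out of an affine scheme which agree after jointly injective ring maps.
-/

set_option autoImplicit false

universe u

open CategoryTheory AlgebraicGeometry

namespace Groth.Agent.H20Lie

/-- basic open of an affine scheme, as an affine scheme -/
noncomputable abbrev awayι {C : CommRingCat.{u}} (g : C) :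
    Spec (CommRingCat.of (Localization.Away g)) ⟶ Spec C :=
  Spec.map (CommRingCat.ofHom (algebraMap C (Localization.Away g)))

theorem range_awayι {C : CommRingCat.{u}} (g : C) :
    Set.range (awayι g) = (PrimeSpectrum.basicOpen g : Set (PrimeSpectrum C)) :=
  PrimeSpectrum.localization_away_comap_range (Localization.Away g) g

theorem hom_ext_of_away {C : CommRingCat.{u}} {X : Scheme.{u}} (y y' : Spec C ⟶ X)
    (h : ∀ p : PrimeSpectrum C, ∃ g : C, g ∉ p.asIdeal ∧ awayι g ≫ y = awayι g ≫ y') : y = y' := by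
  refine Scheme.hom_ext_of_forall y y' fun p => ?_
  obtain ⟨g, hg, hy⟩ := h p
  refine ⟨(awayι g).opensRange, ?_, ?_⟩
  · show p ∈ Set.range (awayι g)
    rw [range_awayι]; exact hg
  · rw [← cancel_epi (awayι g).isoOpensRange.hom, ← Category.assoc, ← Category.assoc,
      Scheme.Hom.isoOpensRange_hom_ι]
    exact hy

/-- Two morphisms with the same underlying map, equal after jointly injective ring maps, are equal. -/
theorem hom_ext_of_injective {C : CommRingCat.{u}} {X : Scheme.{u}} (y y' : Spec C ⟶ X) {ι : Type} [Finite ι]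
    (D : ι → CommRingCat.{u}) (φ : ∀ i, C ⟶ D i) (hinj : ∀ c, (∀ i, (φ i).hom c = 0) → c = 0)
    (hbase : ∀ p : PrimeSpectrum C, y p = y' p) (h : ∀ i, Spec.map (φ i) ≫ y = Spec.map (φ i) ≫ y') : y = y' := by
  classical
  haveI := Fintype.ofFinite ι
  refine hom_ext_of_away y y' fun p => ?_
  obtain ⟨j, hj⟩ : ∃ j, y p ∈ Set.range (X.affineCover.f j) := ⟨_, X.affineCover.covers (y p)⟩
  have hU : IsOpen (y ⁻¹' Set.range (X.affineCover.f j)) :=
    (X.affineCover.f j).isOpenEmbedding.isOpen_range.preimage y.continuous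
  obtain ⟨_, ⟨g, rfl⟩, hpg, hgU⟩ :=
    PrimeSpectrum.isTopologicalBasis_basic_opens.exists_subset_of_mem_open (a := p) hj hU
  refine ⟨g, hpg, ?_⟩
  have hr : ∀ q, (awayι g ≫ y) q ∈ Set.range (X.affineCover.f j) := fun q =>
    hgU ((range_awayι g).le ⟨q, rfl⟩)
  have hr' : Set.range (awayι g ≫ y') ⊆ Set.range (X.affineCover.f j) := by
    rintro _ ⟨q, rfl⟩
    show y' (awayι g q) ∈ _
    rw [← hbase]
    exact hr q
  let a := IsOpenImmersion.lift (X.affineCover.f j) (awayι g ≫ y) (Set.range_subset_iff.mpr hr)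
  let a' := IsOpenImmersion.lift (X.affineCover.f j) (awayι g ≫ y') hr'
  suffices a = a' by
    rw [← IsOpenImmersion.lift_fac (X.affineCover.f j) (awayι g ≫ y) (Set.range_subset_iff.mpr hr),
      ← IsOpenImmersion.lift_fac (X.affineCover.f j) (awayι g ≫ y') hr']
    exact congrArg (· ≫ X.affineCover.f j) this
  have hψ : Spec.preimage a = Spec.preimage a' := by
    ext r : 2
    rw [← sub_eq_zero]
    set z := (Spec.preimage a).hom r - (Spec.preimage a').hom r with hz
    let loc : ∀ i, Localization.Away g →+* Localization.Away ((φ i).hom g) := fun i =>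
      IsLocalization.Away.map _ _ (φ i).hom g
    have hloc : ∀ i, loc i z = 0 := by
      intro i
      have hcomm : Spec.map (CommRingCat.ofHom (loc i)) ≫ awayι g =
          awayι (C := D i) ((φ i).hom g) ≫ Spec.map (φ i) := by
        rw [awayι, awayι, ← Spec.map_comp, ← Spec.map_comp]
        congr 1
        ext c : 2
        show loc i (algebraMap C (Localization.Away g) c) = algebraMap (D i) (Localization.Away ((φ i).hom g)) ((φ i).hom c)
        exact IsLocalization.map_eq _ c
      have e : Spec.preimage a ≫ CommRingCat.ofHom (loc i) = Spec.preimage a' ≫ CommRingCat.ofHom (loc i) := by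
        apply Spec.map_injective
        rw [Spec.map_comp, Spec.map_comp, Spec.map_preimage, Spec.map_preimage]
        refine (cancel_mono (X.affineCover.f j)).mp ((Category.assoc _ _ _).trans (Eq.trans ?_ (Category.assoc _ _ _).symm))
        show Spec.map _ ≫ (IsOpenImmersion.lift _ _ _ ≫ _) = Spec.map _ ≫ (IsOpenImmersion.lift _ _ _ ≫ _)
        rw [IsOpenImmersion.lift_fac, IsOpenImmersion.lift_fac, reassoc_of% hcomm, reassoc_of% hcomm, h i]
      have := ConcreteCategory.congr_hom e r
      simp only [CommRingCat.comp_apply, CommRingCat.hom_ofHom] at this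
      rw [hz, map_sub, sub_eq_zero]
      exact this
    obtain ⟨c, ⟨m, hm⟩, hc⟩ : ∃ c : C, ∃ m : Submonoid.powers g, z * algebraMap C (Localization.Away g) m =
        algebraMap C _ c := by
      obtain ⟨⟨c, m⟩, hc⟩ := IsLocalization.surj (Submonoid.powers g) z
      exact ⟨c, m, hc⟩
    have hn : ∀ i, ∃ n : ℕ, (φ i).hom (g ^ n * c) = 0 := by
      intro i
      have h0 : algebraMap (D i) (Localization.Away ((φ i).hom g)) ((φ i).hom c) = 0 := by
        have h1 := congrArg (loc i) hc
        rw [map_mul, hloc, zero_mul] at h1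
        exact (IsLocalization.map_eq _ c).symm.trans h1.symm
      obtain ⟨⟨_, n, rfl⟩, hn⟩ := (IsLocalization.map_eq_zero_iff (Submonoid.powers ((φ i).hom g)) _ _).mp h0
      exact ⟨n, by rw [map_mul, map_pow]; exact hn⟩
    choose n hn using hn
    have hc0 : g ^ (∑ i, n i) * c = 0 := hinj _ fun i => by
      rw [← Nat.sub_add_cancel (Finset.single_le_sum (f := n) (fun _ _ => Nat.zero_le _) (Finset.mem_univ i)), pow_add,
        mul_assoc, map_mul, hn, mul_zero]
    have hu : IsUnit (algebraMap C (Localization.Away g) m) := IsLocalization.map_units _ (⟨m, hm⟩ : Submonoid.powers g)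
    refine hu.mul_left_eq_zero.mp ?_
    rw [hc, ← (IsUnit.pow (∑ i, n i) (IsLocalization.map_units (Localization.Away g)
      (⟨g, Submonoid.mem_powers g⟩ : Submonoid.powers g))).mul_right_eq_zero, ← map_pow, ← map_mul, hc0, map_zero]
  rw [← Spec.map_preimage a, ← Spec.map_preimage a', hψ]

/-- Two morphisms agreeing on a section with nilpotent kernel and after jointly injective ring maps are equal. -/
theorem hom_ext_of_section {C B : CommRingCat.{u}} {X : Scheme.{u}} (y y' : Spec C ⟶ X) (r : C ⟶ B)
    (hr : Function.Surjective r.hom) (hnil : ∀ c, r.hom c = 0 → IsNilpotent c)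
    (hred : Spec.map r ≫ y = Spec.map r ≫ y') {ι : Type} [Finite ι]
    (D : ι → CommRingCat.{u}) (φ : ∀ i, C ⟶ D i) (hinj : ∀ c, (∀ i, (φ i).hom c = 0) → c = 0)
    (h : ∀ i, Spec.map (φ i) ≫ y = Spec.map (φ i) ≫ y') : y = y' := by
  refine hom_ext_of_injective y y' D φ hinj (fun p => ?_) h
  have hle : RingHom.ker r.hom ≤ p.asIdeal := fun c hc =>
    nilradical_le_prime p.asIdeal (mem_nilradical.mpr (hnil c hc))
  obtain ⟨q, rfl⟩ : p ∈ Set.range (PrimeSpectrum.comap r.hom) := by
    rw [range_comap_of_surjective _ r.hom hr]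
    exact hle
  show (Spec.map r ≫ y) q = (Spec.map r ≫ y') q
  rw [hred]

end Groth.Agent.H20Lie
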