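import Groth.Prelude.Def_LieS
import Groth.Agent.H20Lie.Ext

/-!
Points of monoid schemes with values in square-zero extensions.
-/

set_option autoImplicit false
set_option backward.isDefEq.respectTransparency false

universe u

open CategoryTheory MonoidalCategory CartesianMonoidalCategory MonObj GrpObj AlgebraicGeometry

namespace Groth.Agent.H20Lie

noncomputable section

variable {S : Scheme.{u}} {B : Type u} [CommRing B] (f : Spec (CommRingCat.of B) ⟶ S)

/-- the scheme of a square-zero extension -/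
abbrev sq (M : Type u) [AddCommGroup M] [Module B M] [Module Bᵐᵒᵖ M] [IsCentralScalar B M] : Over S :=
  Over.mk (Spec.map (CommRingCat.ofHom (algebraMap B (TrivSqZeroExt B M))) ≫ f)

variable {M N L : Type u} [AddCommGroup M] [Module B M] [Module Bᵐᵒᵖ M] [IsCentralScalar B M]
  [AddCommGroup N] [Module B N] [Module Bᵐᵒᵖ N] [IsCentralScalar B N]
  [AddCommGroup L] [Module B L] [Module Bᵐᵒᵖ L] [IsCentralScalar B L]

/-- functoriality -/
def sqMap (l : M →ₗ[B] N) : sq f N ⟶ sq f M :=
  Over.homMk (Spec.map (CommRingCat.ofHom (TrivSqZeroExt.map l).toRingHom)) (by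
    change Spec.map _ ≫ Spec.map _ ≫ f = Spec.map _ ≫ f
    rw [← Category.assoc, LieS.specMap_comp]
    congr 3
    exact RingHom.ext fun b => TrivSqZeroExt.map_inl l b)

/-- the zero section -/
def red (M : Type u) [AddCommGroup M] [Module B M] [Module Bᵐᵒᵖ M] [IsCentralScalar B M] : LieS.pt B f ⟶ sq f M :=
  Over.homMk (Spec.map (CommRingCat.ofHom (TrivSqZeroExt.fstHom B B M).toRingHom)) (by
    change Spec.map _ ≫ Spec.map _ ≫ f = f
    rw [← Category.assoc, LieS.specMap_comp, show (TrivSqZeroExt.fstHom B B M).toRingHom.comp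
      (algebraMap B (TrivSqZeroExt B M)) = RingHom.id B from RingHom.ext fun b => by simp, CommRingCat.ofHom_id]
    erw [Spec.map_id]; exact Category.id_comp f)

/-- the projection -/
def projM (M : Type u) [AddCommGroup M] [Module B M] [Module Bᵐᵒᵖ M] [IsCentralScalar B M] : sq f M ⟶ LieS.pt B f :=
  Over.homMk (Spec.map (CommRingCat.ofHom (algebraMap B (TrivSqZeroExt B M)))) rfl

theorem sqMap_comp (l : M →ₗ[B] N) (m : N →ₗ[B] L) : sqMap f m ≫ sqMap f l = sqMap f (m ∘ₗ l) := by
  ext
  change Spec.map _ ≫ Spec.map _ = Spec.map _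
  rw [LieS.specMap_comp]
  congr 2
  exact RingHom.ext fun x => by
    apply TrivSqZeroExt.ext <;> simp

theorem sqMap_id : sqMap f (LinearMap.id : M →ₗ[B] M) = 𝟙 _ := by
  ext
  change Spec.map _ = 𝟙 _
  rw [show (TrivSqZeroExt.map (LinearMap.id : M →ₗ[B] M)).toRingHom = RingHom.id _ from RingHom.ext fun x => by
    apply TrivSqZeroExt.ext <;> simp, CommRingCat.ofHom_id]
  erw [Spec.map_id]

theorem red_sqMap (l : M →ₗ[B] N) : red f N ≫ sqMap f l = red f M := by
  ext
  change Spec.map _ ≫ Spec.map _ = Spec.map _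
  rw [LieS.specMap_comp]
  congr 2
  exact RingHom.ext fun x => by simp

theorem red_projM : red f M ≫ projM f M = 𝟙 _ := by
  ext
  change Spec.map _ ≫ Spec.map _ = 𝟙 _
  rw [LieS.specMap_comp, show (TrivSqZeroExt.fstHom B B M).toRingHom.comp
    (algebraMap B (TrivSqZeroExt B M)) = RingHom.id B from RingHom.ext fun b => by simp, CommRingCat.ofHom_id]
  erw [Spec.map_id]

theorem sqMap_zero : sqMap f (0 : M →ₗ[B] N) = projM f N ≫ red f M := by
  ext
  change Spec.map _ = Spec.map _ ≫ Spec.map _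
  rw [LieS.specMap_comp]
  congr 2
  exact RingHom.ext fun x => by
    apply TrivSqZeroExt.ext <;> simp [TrivSqZeroExt.algebraMap_eq_inl]

/-- Two points agree when they agree on the zero section and after jointly injective maps. -/
theorem ext_of_jointly_injective {X : Over S} (y y' : sq f M ⟶ X) (hred : red f M ≫ y = red f M ≫ y')
    {J : Type} [Finite J] [Nonempty J] (π : J → (M →ₗ[B] N)) (hπ : ∀ m, (∀ i, π i m = 0) → m = 0)
    (h : ∀ i, sqMap f (π i) ≫ y = sqMap f (π i) ≫ y') : y = y' := by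
  ext
  refine hom_ext_of_section (C := CommRingCat.of (TrivSqZeroExt B M)) (B := CommRingCat.of B) y.left y'.left
    (CommRingCat.ofHom (TrivSqZeroExt.fstHom B B M).toRingHom) (fun b => ⟨TrivSqZeroExt.inl b, by simp⟩) ?_
    (congrArg (·.left) hred) (fun _ => CommRingCat.of (TrivSqZeroExt B N))
    (fun i => CommRingCat.ofHom (TrivSqZeroExt.map (π i)).toRingHom) ?_ (fun i => congrArg (·.left) (h i))
  · intro c hc
    refine ⟨2, ?_⟩
    change TrivSqZeroExt.fst c = 0 at hc
    rw [pow_two]
    apply TrivSqZeroExt.ext <;> simp [hc]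
  · intro c hc
    apply TrivSqZeroExt.ext
    · have := congrArg TrivSqZeroExt.fst (hc (Classical.arbitrary J))
      simpa using this
    · rw [TrivSqZeroExt.snd_zero]
      refine hπ _ fun i => ?_
      have := congrArg TrivSqZeroExt.snd (hc i)
      simpa using this

section Monoid

variable {X : Over S} [MonObj X]

theorem sqMap_zero_comp {x : sq f M ⟶ X} (hx : red f M ≫ x = 1) : sqMap f (0 : M →ₗ[B] N) ≫ x = 1 := by
  rw [sqMap_zero, Category.assoc, hx, MonObj.comp_one]

theorem red_comp_sqMap {x : sq f M ⟶ X} (hx : red f M ≫ x = 1) (l : M →ₗ[B] N) :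
    red f N ≫ sqMap f l ≫ x = 1 := by
  rw [← Category.assoc, red_sqMap, hx]

theorem sqMap_add {x : sq f M ⟶ X} (hx : red f M ≫ x = 1) (a b : M →ₗ[B] N) :
    sqMap f (a + b) ≫ x = (sqMap f a ≫ x) * (sqMap f b ≫ x) := by
  let i₁ : M →ₗ[B] N × N := LinearMap.inl B N N ∘ₗ a
  let i₂ : M →ₗ[B] N × N := LinearMap.inr B N N ∘ₗ b
  let d : M →ₗ[B] N × N := a.prod b
  have hy : sqMap f d ≫ x = (sqMap f i₁ ≫ x) * (sqMap f i₂ ≫ x) := by
    refine ext_of_jointly_injective f _ _ ?_
      (fun t : Bool => if t then LinearMap.fst B N N else LinearMap.snd B N N) ?_ ?_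
    · rw [MonObj.comp_mul, red_comp_sqMap f hx, red_comp_sqMap f hx, red_comp_sqMap f hx, _root_.mul_one]
    · intro m hm
      exact Prod.ext (by simpa using hm true) (by simpa using hm false)
    · intro t
      rw [MonObj.comp_mul, ← Category.assoc, ← Category.assoc, ← Category.assoc, sqMap_comp, sqMap_comp, sqMap_comp]
      cases t
      · simp only [Bool.false_eq_true, ↓reduceIte]
        rw [show LinearMap.snd B N N ∘ₗ i₁ = 0 by ext; simp [i₁],
          show LinearMap.snd B N N ∘ₗ i₂ = b by ext; simp [i₂],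
          show LinearMap.snd B N N ∘ₗ d = b by ext; simp [d], sqMap_zero_comp f hx, _root_.one_mul]
      · simp only [↓reduceIte]
        rw [show LinearMap.fst B N N ∘ₗ i₁ = a by ext; simp [i₁],
          show LinearMap.fst B N N ∘ₗ i₂ = 0 by ext; simp [i₂],
          show LinearMap.fst B N N ∘ₗ d = a by ext; simp [d], sqMap_zero_comp f hx, _root_.mul_one]
  have := congrArg (sqMap f (LinearMap.fst B N N + LinearMap.snd B N N) ≫ ·) hy
  simp only [MonObj.comp_mul, ← Category.assoc, sqMap_comp] at this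
  rw [show (LinearMap.fst B N N + LinearMap.snd B N N) ∘ₗ i₁ = a by ext; simp [i₁],
    show (LinearMap.fst B N N + LinearMap.snd B N N) ∘ₗ i₂ = b by ext; simp [i₂],
    show (LinearMap.fst B N N + LinearMap.snd B N N) ∘ₗ d = a + b by ext; simp [d]] at this
  exact this

theorem mul_comm_of_red {x y : sq f M ⟶ X} (hx : red f M ≫ x = 1) (hy : red f M ≫ y = 1) : x * y = y * x := by
  let p₁ : M →ₗ[B] M × M := LinearMap.inl B M M
  let p₂ : M →ₗ[B] M × M := LinearMap.inr B M M
  have h : (sqMap f p₁ ≫ x) * (sqMap f p₂ ≫ y) = (sqMap f p₂ ≫ y) * (sqMap f p₁ ≫ x) := by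
    refine ext_of_jointly_injective f _ _ ?_
      (fun t : Bool => if t then LinearMap.fst B M M else LinearMap.snd B M M) ?_ ?_
    · rw [MonObj.comp_mul, MonObj.comp_mul, red_comp_sqMap f hx, red_comp_sqMap f hy]
    · intro m hm
      exact Prod.ext (by simpa using hm true) (by simpa using hm false)
    · intro t
      rw [MonObj.comp_mul, MonObj.comp_mul, ← Category.assoc, ← Category.assoc, sqMap_comp, sqMap_comp]
      cases t
      · simp only [Bool.false_eq_true, ↓reduceIte]
        rw [show LinearMap.snd B M M ∘ₗ p₁ = 0 by ext; simp [p₁], sqMap_zero_comp f hx, _root_.one_mul, _root_.mul_one]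
      · simp only [↓reduceIte]
        rw [show LinearMap.fst B M M ∘ₗ p₂ = 0 by ext; simp [p₂], sqMap_zero_comp f hy, _root_.one_mul, _root_.mul_one]
  have := congrArg (sqMap f (LinearMap.fst B M M + LinearMap.snd B M M) ≫ ·) h
  simp only [MonObj.comp_mul, ← Category.assoc, sqMap_comp] at this
  rw [show (LinearMap.fst B M M + LinearMap.snd B M M) ∘ₗ p₁ = LinearMap.id by ext; simp [p₁],
    show (LinearMap.fst B M M + LinearMap.snd B M M) ∘ₗ p₂ = LinearMap.id by ext; simp [p₂], sqMap_id,
    Category.id_comp, Category.id_comp] at this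
  exact this

theorem isUnit_of_red {x : sq f M ⟶ X} (hx : red f M ≫ x = 1) : IsUnit x := by
  have h1 : x = sqMap f LinearMap.id ≫ x := by rw [sqMap_id, Category.id_comp]
  have e : x * (sqMap f (-LinearMap.id) ≫ x) = 1 := by
    conv_lhs => lhs; rw [h1]
    rw [← sqMap_add f hx, add_neg_cancel, sqMap_zero_comp f hx]
  exact ⟨⟨x, _, e, by rw [mul_comm_of_red f (red_comp_sqMap f hx _) hx, e]⟩, rfl⟩

theorem isUnit_iff (v : sq f M ⟶ X) : IsUnit v ↔ IsUnit (red f M ≫ v) := by
  constructor
  · rintro ⟨w, rfl⟩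
    exact ⟨⟨red f M ≫ (w : sq f M ⟶ X), red f M ≫ ((w⁻¹ : (sq f M ⟶ X)ˣ) : sq f M ⟶ X),
      by rw [← MonObj.comp_mul, Units.mul_inv, MonObj.comp_one],
      by rw [← MonObj.comp_mul, Units.inv_mul, MonObj.comp_one]⟩, rfl⟩
  · rintro ⟨w, hw⟩
    let u : sq f M ⟶ X := projM f M ≫ ((w⁻¹ : (LieS.pt B f ⟶ X)ˣ) : LieS.pt B f ⟶ X)
    let u' : sq f M ⟶ X := projM f M ≫ (w : LieS.pt B f ⟶ X)
    have hvu : red f M ≫ (v * u) = 1 := by
      rw [MonObj.comp_mul, ← Category.assoc, red_projM, Category.id_comp, ← hw, Units.mul_inv]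
    have huu : u * u' = 1 := by rw [← MonObj.comp_mul, Units.inv_mul, MonObj.comp_one]
    rw [show v = v * u * u' by rw [_root_.mul_assoc, huu, _root_.mul_one]]
    exact (isUnit_of_red f hvu).mul ⟨⟨u', u, by rw [← MonObj.comp_mul, Units.mul_inv, MonObj.comp_one], huu⟩, rfl⟩

end Monoid

section Lie

variable {G : Over S} [GrpObj G]

theorem scale_eq (b : B) : LieS.scale B f b = sqMap f (b • LinearMap.id : B →ₗ[B] B) := by
  ext
  change Spec.map _ = Spec.map _
  congr 2
  exact RingHom.ext fun x => by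
    apply TrivSqZeroExt.ext <;> simp [LieS.scaleHom, TrivSqZeroExt.algebraMap_eq_inl, mul_comm]

theorem red_val (v : LieS.Lie G B f) : red f B ≫ v.1 = 1 := (LieS.mem_Lie_iff G B f v.1).mp v.2

theorem smul_val' (b : B) (v : LieS.Lie G B f) : (b • v).1 = sqMap f (b • LinearMap.id : B →ₗ[B] B) ≫ v.1 := by
  rw [LieS.smul_val, scale_eq]

theorem add_smul' (a b : B) (v : LieS.Lie G B f) : ((a + b) • v : LieS.Lie G B f) = (a • v) * (b • v) := by
  refine Subtype.ext ?_
  rw [Subgroup.coe_mul, smul_val', smul_val', smul_val', add_smul, sqMap_add f (red_val f v)]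

theorem one_smul' (v : LieS.Lie G B f) : ((1 : B) • v : LieS.Lie G B f) = v := by
  refine Subtype.ext ?_
  rw [smul_val', one_smul, sqMap_id]
  exact Category.id_comp _

theorem zero_smul' (v : LieS.Lie G B f) : ((0 : B) • v : LieS.Lie G B f) = 1 := by
  refine Subtype.ext ?_
  rw [smul_val', zero_smul, sqMap_zero_comp f (red_val f v)]
  rfl

theorem mul_smul' (a b : B) (v : LieS.Lie G B f) : ((a * b) • v : LieS.Lie G B f) = a • b • v := by
  refine Subtype.ext ?_
  rw [smul_val', smul_val', smul_val', ← Category.assoc, sqMap_comp]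
  congr 2
  refine LinearMap.ext fun x => ?_
  simp only [LinearMap.smul_apply, LinearMap.comp_apply, LinearMap.id_apply, smul_eq_mul]
  ring

theorem smul_mul' (b : B) (v w : LieS.Lie G B f) : (b • (v * w) : LieS.Lie G B f) = (b • v) * (b • w) := by
  refine Subtype.ext ?_
  rw [Subgroup.coe_mul, smul_val', smul_val', smul_val', Subgroup.coe_mul]
  exact MonObj.comp_mul _ _ _

theorem mul_comm' (v w : LieS.Lie G B f) : v * w = w * v :=
  Subtype.ext (mul_comm_of_red f (red_val f v) (red_val f w))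

theorem intCast_smul (v : LieS.Lie G B f) (n : ℤ) : ((n : B) • v : LieS.Lie G B f) = v ^ n := by
  have hnat : ∀ m : ℕ, ((m : B) • v : LieS.Lie G B f) = v ^ m := by
    intro m
    induction m with
    | zero => rw [Nat.cast_zero, zero_smul', pow_zero]
    | succ m ih => rw [Nat.cast_succ, add_smul', ih, one_smul', pow_succ]
  obtain ⟨m, rfl | rfl⟩ := n.eq_nat_or_neg
  · rw [Int.cast_natCast, zpow_natCast, hnat]
  · rw [Int.cast_neg, Int.cast_natCast, zpow_neg, zpow_natCast, ← hnat]
    refine eq_inv_of_mul_eq_one_left ?_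
    rw [← add_smul', neg_add_cancel, zero_smul']

theorem eq_of_mulMap_eq {z z' : LieS.Lie G B f} (h : LieS.mulMap B f ≫ z.1 = LieS.mulMap B f ≫ z'.1) : z = z' := by
  refine Subtype.ext (Over.OverMorphism.ext ?_)
  refine hom_ext_of_section (C := CommRingCat.of (DualNumber B)) (B := CommRingCat.of B) z.1.left z'.1.left
    (CommRingCat.ofHom (TrivSqZeroExt.fstHom B B B).toRingHom) (fun b => ⟨TrivSqZeroExt.inl b, by simp⟩) ?_
    ((congrArg (·.left) (red_val f z)).trans (congrArg (·.left) (red_val f z')).symm)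
    (fun _ : Unit => CommRingCat.of (LieS.D2 B)) (fun _ => CommRingCat.ofHom (LieS.mulHom B)) ?_
    (fun _ => congrArg (·.left) h)
  · intro c hc
    refine ⟨2, ?_⟩
    change TrivSqZeroExt.fst c = 0 at hc
    rw [pow_two]
    apply TrivSqZeroExt.ext <;> simp [hc]
  · intro c hc
    have := hc ()
    simp [LieS.mulHom, LieS.toD2, TrivSqZeroExt.ext_iff, TrivSqZeroExt.algebraMap_eq_inl] at this
    apply TrivSqZeroExt.ext
    · simpa using this.1
    · simpa using this.2

end Lie

end

end Groth.Agent.H20Lie
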