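import Groth.Agent.H20Lie.Basic
import Groth.Agent.H7Flat.PushoutAffine

/-!
The bracket of the Lie algebra of a group scheme.
-/

set_option autoImplicit false
set_option backward.isDefEq.respectTransparency false

universe u

open CategoryTheory MonoidalCategory CartesianMonoidalCategory MonObj GrpObj AlgebraicGeometry
open TrivSqZeroExt (fst snd inl inr)

namespace Groth.Agent.H20Lie

noncomputable section

section Rings

variable {B : Type u} [CommRing B]

/-- forget the coefficient of `εε'` -/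
def pHom (B : Type u) [CommRing B] : LieS.D2 B →+* TrivSqZeroExt B (B × B) where
  toFun x := inl (fst (fst x)) + inr (snd (fst x), fst (snd x))
  map_one' := by apply TrivSqZeroExt.ext <;> simp
  map_mul' x y := by
    apply TrivSqZeroExt.ext
    · simp
    · simp [DualNumber.snd_mul, mul_comm]
  map_zero' := by apply TrivSqZeroExt.ext <;> simp
  map_add' x y := by apply TrivSqZeroExt.ext <;> simp

/-- `(a,(b,c)) ↦ a + bε + cεε'` -/
def jHom (B : Type u) [CommRing B] : TrivSqZeroExt B (B × B) →+* LieS.D2 B where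
  toFun x := inl (inl (fst x) + inr (snd x).1) + inr (inr (snd x).2)
  map_one' := by apply TrivSqZeroExt.ext <;> apply TrivSqZeroExt.ext <;> simp
  map_mul' x y := by
    apply TrivSqZeroExt.ext <;> apply TrivSqZeroExt.ext <;> simp [DualNumber.snd_mul, mul_comm]
  map_zero' := by apply TrivSqZeroExt.ext <;> apply TrivSqZeroExt.ext <;> simp
  map_add' x y := by apply TrivSqZeroExt.ext <;> apply TrivSqZeroExt.ext <;> simp

/-- exchange the two coordinates -/
def swapHom (B : Type u) [CommRing B] : LieS.D2 B →+* LieS.D2 B :=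
  LieS.dualHom (LieS.bcHom (algebraMap B (DualNumber B))) (algebraMap (DualNumber B) (LieS.D2 B) DualNumber.eps)
    (by rw [← map_mul, LieS.eps_sq, map_zero])

theorem swapHom_apply (x : LieS.D2 B) :
    fst (fst (swapHom B x)) = fst (fst x) ∧ snd (fst (swapHom B x)) = fst (snd x) ∧
      fst (snd (swapHom B x)) = snd (fst x) ∧ snd (snd (swapHom B x)) = snd (snd x) := by
  simp [swapHom, LieS.bcHom, TrivSqZeroExt.algebraMap_eq_inl, DualNumber.snd_mul]

theorem mulHom_apply (x : DualNumber B) :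
    LieS.mulHom B x = inl (inl (fst x)) + inr (inr (snd x)) := by
  apply TrivSqZeroExt.ext <;> apply TrivSqZeroExt.ext <;>
    simp [LieS.mulHom, LieS.toD2, TrivSqZeroExt.algebraMap_eq_inl, DualNumber.snd_mul]

theorem mulHom_sq : H7Flat.RingSq (R := DualNumber B) (A' := LieS.D2 B) (B := B) (A := TrivSqZeroExt B (B × B)) (LieS.mulHom B) (TrivSqZeroExt.fstHom B B B).toRingHom (pHom B)
    (algebraMap B (TrivSqZeroExt B (B × B))) where
  comm z := by
    rw [mulHom_apply]
    apply TrivSqZeroExt.ext <;> simp [pHom, TrivSqZeroExt.algebraMap_eq_inl]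
  surj w := ⟨inl (inl (fst w) + inr (snd w).1) + inr (inl (snd w).2), by
    apply TrivSqZeroExt.ext <;> simp [pHom]⟩
  ext z z' h _ := by
    rw [mulHom_apply, mulHom_apply] at h
    apply TrivSqZeroExt.ext
    · simpa using congrArg (fun w => fst (fst w)) h
    · simpa using congrArg (fun w => snd (snd w)) h
  exists_lift x y h := by
    have h1 := congrArg fst h
    have h2 := congrArg snd h
    simp [pHom, TrivSqZeroExt.algebraMap_eq_inl, Prod.ext_iff] at h1 h2
    refine ⟨inl y + inr (snd (snd x)), ?_, by simp⟩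
    rw [mulHom_apply]
    apply TrivSqZeroExt.ext <;> apply TrivSqZeroExt.ext <;> simp [h1, h2]

/-- elements symmetric in the two coordinates -/
abbrev symm (B : Type u) [CommRing B] : Subring (LieS.D2 B) := (swapHom B).eqLocus (RingHom.id _)

/-- restriction to an axis -/
def symmFst (B : Type u) [CommRing B] : symm B →+* DualNumber B :=
  (TrivSqZeroExt.fstHom (DualNumber B) (DualNumber B) (DualNumber B)).toRingHom.comp (symm B).subtype

theorem mem_symm {x : LieS.D2 B} : x ∈ symm B ↔ snd (fst x) = fst (snd x) := by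
  change swapHom B x = x ↔ _
  obtain ⟨a, b, c, d⟩ := swapHom_apply x
  constructor
  · intro h
    rw [h] at b
    exact b
  · intro h
    apply TrivSqZeroExt.ext <;> apply TrivSqZeroExt.ext
    exacts [a, b.trans h.symm, c.trans h, d]

theorem symm_sq : H7Flat.RingSq (R := symm B) (A' := LieS.D2 B) (B := DualNumber B) (A := TrivSqZeroExt B (B × B)) (symm B).subtype (symmFst B) (pHom B)
    (TrivSqZeroExt.map ((LinearMap.id : B →ₗ[B] B).prod LinearMap.id)).toRingHom where
  comm z := by
    have := mem_symm.1 z.2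
    apply TrivSqZeroExt.ext <;> simp [pHom, symmFst, this]
  surj := mulHom_sq.surj
  ext z z' h _ := Subtype.ext h
  exists_lift x y h := by
    have h1 := congrArg fst h
    have h2 := congrArg snd h
    simp [pHom, Prod.ext_iff] at h1 h2
    refine ⟨⟨x, mem_symm.2 (h2.1.trans h2.2.symm)⟩, rfl, ?_⟩
    apply TrivSqZeroExt.ext
    · simpa [symmFst] using h1
    · simpa [symmFst] using h2.1

end Rings

variable {S : Scheme.{u}} {B : Type u} [CommRing B] (f : Spec (CommRingCat.of B) ⟶ S)

/-- renaming `ε` to `ε'` -/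
abbrev outer : LieS.d2pt B f ⟶ LieS.dpt B f := LieS.dptMap f (algebraMap B (DualNumber B))

/-- forgetting `ε'` -/
abbrev inner : LieS.d2pt B f ⟶ LieS.dpt B f := LieS.proj (DualNumber B) (LieS.dpt B f).hom

/-- the axis `ε' = 0` -/
def axis1 : LieS.dpt B f ⟶ LieS.d2pt B f := LieS.zeroSec (DualNumber B) (LieS.dpt B f).hom

/-- the axis `ε = 0` -/
def axis2 : LieS.dpt B f ⟶ LieS.d2pt B f :=
  Over.homMk (Spec.map (CommRingCat.ofHom (LieS.bcHom (TrivSqZeroExt.fstHom B B B).toRingHom))) (by
    change Spec.map _ ≫ Spec.map _ ≫ Spec.map _ ≫ f = Spec.map _ ≫ f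
    rw [← Category.assoc, ← Category.assoc, LieS.specMap_comp, LieS.specMap_comp]
    congr 3
    exact RingHom.ext fun b => by simp [LieS.bcHom, TrivSqZeroExt.algebraMap_eq_inl])

/-- the two axes together -/
def axes : sq f (B × B) ⟶ LieS.d2pt B f :=
  Over.homMk (Spec.map (CommRingCat.ofHom (pHom B))) (by
    change Spec.map _ ≫ Spec.map _ ≫ Spec.map _ ≫ f = Spec.map _ ≫ f
    rw [← Category.assoc, ← Category.assoc, LieS.specMap_comp, LieS.specMap_comp]
    congr 3
    exact RingHom.ext fun b => by apply TrivSqZeroExt.ext <;> simp [pHom, TrivSqZeroExt.algebraMap_eq_inl])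

/-- the point `(a,(b,c)) ↦ a + bε + cεε'` -/
def jMap : LieS.d2pt B f ⟶ sq f (B × B) :=
  Over.homMk (Spec.map (CommRingCat.ofHom (jHom B))) (by
    change Spec.map _ ≫ Spec.map _ ≫ f = Spec.map _ ≫ Spec.map _ ≫ f
    rw [← Category.assoc, ← Category.assoc, LieS.specMap_comp, LieS.specMap_comp]
    congr 3
    exact RingHom.ext fun b => by
      apply TrivSqZeroExt.ext <;> apply TrivSqZeroExt.ext <;> simp [jHom, TrivSqZeroExt.algebraMap_eq_inl])

/-- exchange of coordinates -/
def swap : LieS.d2pt B f ⟶ LieS.d2pt B f :=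
  Over.homMk (Spec.map (CommRingCat.ofHom (swapHom B))) (by
    change Spec.map _ ≫ Spec.map _ ≫ Spec.map _ ≫ f = Spec.map _ ≫ Spec.map _ ≫ f
    rw [← Category.assoc, ← Category.assoc, LieS.specMap_comp, LieS.specMap_comp, ← Category.assoc, LieS.specMap_comp]
    congr 3
    exact RingHom.ext fun b => by
      apply TrivSqZeroExt.ext <;> apply TrivSqZeroExt.ext <;>
        simp [swapHom, LieS.bcHom, TrivSqZeroExt.algebraMap_eq_inl, DualNumber.snd_mul])

macro "d2_ext" : tactic => `(tactic| (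
  ext
  change Spec.map _ ≫ Spec.map _ = Spec.map _
  rw [LieS.specMap_comp]
  congr 2
  refine RingHom.ext fun x => ?_
  apply TrivSqZeroExt.ext <;> first
    | (apply TrivSqZeroExt.ext <;>
        simp [pHom, jHom, swapHom, LieS.bcHom, LieS.mulHom, LieS.toD2, LieS.scaleHom,
          TrivSqZeroExt.algebraMap_eq_inl, DualNumber.snd_mul])
    | simp [pHom, jHom, swapHom, LieS.bcHom, LieS.mulHom, LieS.toD2, LieS.scaleHom,
          TrivSqZeroExt.algebraMap_eq_inl, DualNumber.snd_mul]))

theorem fst_axes : sqMap f (LinearMap.fst B B B) ≫ axes f = axis1 f := by d2_ext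
theorem snd_axes : sqMap f (LinearMap.snd B B B) ≫ axes f = axis2 f := by d2_ext
theorem axis1_inner : axis1 f ≫ inner f = 𝟙 _ := LieS.zeroSec_proj (DualNumber B) (LieS.dpt B f).hom
theorem axis2_outer : axis2 f ≫ outer f = 𝟙 _ := by
  ext
  change Spec.map _ ≫ Spec.map _ = 𝟙 _
  rw [LieS.specMap_comp]
  rw [← Spec.map_id]
  congr 1
  refine CommRingCat.hom_ext (RingHom.ext fun x => ?_)
  apply TrivSqZeroExt.ext <;> simp [LieS.bcHom, TrivSqZeroExt.algebraMap_eq_inl]
theorem axis1_outer : axis1 f ≫ outer f = LieS.proj B f ≫ LieS.zeroSec B f := by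
  ext
  change Spec.map _ ≫ Spec.map _ = Spec.map _ ≫ Spec.map _
  rw [LieS.specMap_comp, LieS.specMap_comp]
  congr 2
  refine RingHom.ext fun x => ?_
  apply TrivSqZeroExt.ext <;> simp [LieS.bcHom, TrivSqZeroExt.algebraMap_eq_inl]
theorem axis2_inner : axis2 f ≫ inner f = LieS.proj B f ≫ LieS.zeroSec B f := by
  ext
  change Spec.map _ ≫ Spec.map _ = Spec.map _ ≫ Spec.map _
  rw [LieS.specMap_comp, LieS.specMap_comp]
  congr 2
  refine RingHom.ext fun x => ?_
  apply TrivSqZeroExt.ext <;> simp [LieS.bcHom, TrivSqZeroExt.algebraMap_eq_inl]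
theorem jMap_fst : jMap f ≫ sqMap f (LinearMap.inl B B B) = inner f := by d2_ext
theorem jMap_snd : jMap f ≫ sqMap f (LinearMap.inr B B B) = LieS.mulMap B f := by d2_ext
theorem swap_inner : swap f ≫ inner f = outer f := by d2_ext
theorem swap_outer : swap f ≫ outer f = inner f := by d2_ext
theorem swap_mulMap : swap f ≫ LieS.mulMap B f = LieS.mulMap B f := by d2_ext

section Group

variable {G : Over S} [GrpObj G]

theorem comp_lie (w : LieS.dpt B f ⟶ LieS.dpt B f) (hw : w = LieS.proj B f ≫ LieS.zeroSec B f)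
    (v : LieS.Lie G B f) : w ≫ v.1 = 1 := by
  rw [hw, Category.assoc, (LieS.mem_Lie_iff G B f v.1).1 v.2, MonObj.comp_one]

theorem axes_eq {P P' : LieS.d2pt B f ⟶ G} (h1 : axis1 f ≫ P = axis1 f ≫ P') (h2 : axis2 f ≫ P = axis2 f ≫ P') :
    axes f ≫ P = axes f ≫ P' := by
  refine ext_of_jointly_injective f _ _ ?_
    (fun t : Bool => if t then LinearMap.fst B B B else LinearMap.snd B B B) ?_ ?_
  · rw [← red_sqMap f (LinearMap.fst B B B)]
    simp only [Category.assoc]
    rw [← Category.assoc (sqMap f _) (axes f) P, ← Category.assoc (sqMap f _) (axes f) P', fst_axes, h1]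
  · intro m hm
    exact Prod.ext (by simpa using hm true) (by simpa using hm false)
  · intro t
    rw [← Category.assoc, ← Category.assoc]
    cases t
    · simp only [Bool.false_eq_true, ↓reduceIte, snd_axes, h2]
    · simp only [↓reduceIte, fst_axes, h1]

/-- descent along `mulMap` -/
theorem exists_mulMap (c : LieS.d2pt B f ⟶ G) (h1 : axis1 f ≫ c = 1) (h2 : axis2 f ≫ c = 1) :
    ∃ z : LieS.Lie G B f, LieS.mulMap B f ≫ z.1 = c := by
  have h : axes f ≫ c = projM f (B × B) ≫ (1 : LieS.pt B f ⟶ G) := by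
    rw [axes_eq f (P' := 1) (by rw [h1, MonObj.comp_one]) (by rw [h2, MonObj.comp_one]), MonObj.comp_one, MonObj.comp_one]
  obtain ⟨φ, hφ1, hφ2⟩ := mulHom_sq.exists_desc c.left (1 : LieS.pt B f ⟶ G).left (congrArg (·.left) h)
  have hφ : φ ≫ G.hom = (LieS.dpt B f).hom := by
    refine mulHom_sq.hom_ext ?_ ?_
    · rw [← Category.assoc, hφ1, Over.w c]
      exact (Over.w (LieS.mulMap B f)).symm
    · rw [← Category.assoc, hφ2, Over.w]
      exact (Over.w (LieS.zeroSec B f)).symm
  exact ⟨⟨Over.homMk φ hφ, (LieS.mem_Lie_iff G B f _).2 (Over.OverMorphism.ext hφ2)⟩, Over.OverMorphism.ext hφ1⟩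

theorem swap_eq_of_axes (P : LieS.d2pt B f ⟶ G) (h : axis1 f ≫ P = axis2 f ≫ P) : swap f ≫ P = P := by
  let u := axis1 f ≫ P
  have hq : axes f ≫ P = sqMap f ((LinearMap.id : B →ₗ[B] B).prod LinearMap.id) ≫ u := by
    refine ext_of_jointly_injective f _ _ ?_
      (fun t : Bool => if t then LinearMap.fst B B B else LinearMap.snd B B B) ?_ ?_
    · rw [← Category.assoc (red f _) (sqMap f _) u, red_sqMap, ← red_sqMap f (LinearMap.fst B B B), Category.assoc,
        ← Category.assoc (sqMap f _) (axes f) P, fst_axes]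
    · intro m hm
      exact Prod.ext (by simpa using hm true) (by simpa using hm false)
    · intro t
      rw [← Category.assoc, ← Category.assoc, sqMap_comp]
      cases t
      · simp only [Bool.false_eq_true, ↓reduceIte, snd_axes]
        rw [LinearMap.snd_prod, sqMap_id]
        exact h.symm.trans (Category.id_comp u).symm
      · simp only [↓reduceIte, fst_axes]
        rw [LinearMap.fst_prod, sqMap_id]
        exact (Category.id_comp u).symm
  obtain ⟨φ, hφ, -⟩ := symm_sq.exists_desc P.left u.left (congrArg (·.left) hq)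
  ext
  rw [Over.comp_left, ← hφ, ← Category.assoc]
  congr 1
  change Spec.map _ ≫ Spec.map _ = Spec.map _
  rw [LieS.specMap_comp]
  congr 2
  exact RingHom.ext fun z => z.2

theorem commute_swap (x : LieS.Lie G B f) : Commute (outer f ≫ x.1) (inner f ≫ x.1) := by
  have := swap_eq_of_axes f ((outer f ≫ x.1) * (inner f ≫ x.1)) (by
    rw [MonObj.comp_mul, MonObj.comp_mul, ← Category.assoc, ← Category.assoc, ← Category.assoc, ← Category.assoc,
      axis1_inner, axis2_outer, comp_lie f _ (axis1_outer f), comp_lie f _ (axis2_inner f), Category.id_comp,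
      _root_.one_mul, _root_.mul_one])
  rw [MonObj.comp_mul, ← Category.assoc, ← Category.assoc, swap_inner, swap_outer] at this
  exact this.symm

theorem commute_inner (y z : LieS.Lie G B f) : Commute (inner f ≫ y.1) (LieS.mulMap B f ≫ z.1) := by
  rw [← jMap_fst, ← jMap_snd, Category.assoc, Category.assoc]
  change (jMap f ≫ _) * (jMap f ≫ _) = (jMap f ≫ _) * (jMap f ≫ _)
  rw [← MonObj.comp_mul, ← MonObj.comp_mul,
    mul_comm_of_red f (red_comp_sqMap f (red_val f y) _) (red_comp_sqMap f (red_val f z) _)]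

theorem commute_outer (x z : LieS.Lie G B f) : Commute (outer f ≫ x.1) (LieS.mulMap B f ≫ z.1) := by
  have h := congrArg (swap f ≫ ·) (commute_inner f x z).eq
  simp only [MonObj.comp_mul, ← Category.assoc, swap_inner, swap_mulMap] at h
  exact h

open LieS in
theorem exists_bracket (x y : LieS.Lie G B f) : ∃ z, LieS.IsBracket G B f x y z := by
  refine exists_mulMap f _ ?_ ?_
  · simp only [MonObj.comp_mul, GrpObj.comp_inv, ← Category.assoc]
    rw [comp_lie f _ (axis1_outer f)]
    simp
  · simp only [MonObj.comp_mul, GrpObj.comp_inv, ← Category.assoc]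
    rw [comp_lie f _ (axis2_inner f)]
    simp

/-- the bracket -/
def br (x y : LieS.Lie G B f) : LieS.Lie G B f := (exists_bracket f x y).choose

theorem br_spec (x y : LieS.Lie G B f) : LieS.mulMap B f ≫ (br f x y).1 =
    (outer f ≫ x.1) * (inner f ≫ y.1) * (outer f ≫ x.1)⁻¹ * (inner f ≫ y.1)⁻¹ :=
  (exists_bracket f x y).choose_spec

theorem br_eq {x y z : LieS.Lie G B f} (h : LieS.mulMap B f ≫ z.1 =
    (outer f ≫ x.1) * (inner f ≫ y.1) * (outer f ≫ x.1)⁻¹ * (inner f ≫ y.1)⁻¹) : br f x y = z :=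
  eq_of_mulMap_eq f ((br_spec f x y).trans h.symm)

theorem br_self (x : LieS.Lie G B f) : br f x x = 1 := by
  refine br_eq f ?_
  rw [Subgroup.coe_one, MonObj.comp_one, (commute_swap f x).eq]
  simp

theorem br_mul_right (x y₁ y₂ : LieS.Lie G B f) : br f x (y₁ * y₂) = br f x y₁ * br f x y₂ := by
  refine br_eq f ?_
  rw [Subgroup.coe_mul, Subgroup.coe_mul, MonObj.comp_mul, MonObj.comp_mul]
  have hc := (commute_inner f y₁ (br f x y₂)).eq
  rw [br_spec] at hc
  rw [br_spec, br_spec]
  generalize outer f ≫ x.1 = a at *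
  generalize inner f ≫ y₁.1 = b at *
  generalize inner f ≫ y₂.1 = c at *
  calc a * b * a⁻¹ * b⁻¹ * (a * c * a⁻¹ * c⁻¹)
      = a * b * a⁻¹ * b⁻¹ * (b * (a * c * a⁻¹ * c⁻¹) * b⁻¹) := by rw [hc, mul_inv_cancel_right]
    _ = a * (b * c) * a⁻¹ * (b * c)⁻¹ := by group

theorem br_mul_left (x₁ x₂ y : LieS.Lie G B f) : br f (x₁ * x₂) y = br f x₁ y * br f x₂ y := by
  refine br_eq f ?_
  rw [mul_comm' f (br f x₁ y), Subgroup.coe_mul, Subgroup.coe_mul, MonObj.comp_mul, MonObj.comp_mul]
  have hc := (commute_outer f x₁ (br f x₂ y)).eq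
  rw [br_spec] at hc
  rw [br_spec, br_spec]
  generalize outer f ≫ x₁.1 = a at *
  generalize outer f ≫ x₂.1 = b at *
  generalize inner f ≫ y.1 = c at *
  calc b * c * b⁻¹ * c⁻¹ * (a * c * a⁻¹ * c⁻¹)
      = a * (b * c * b⁻¹ * c⁻¹) * a⁻¹ * (a * c * a⁻¹ * c⁻¹) := by rw [hc, mul_inv_cancel_right]
    _ = a * b * c * (a * b)⁻¹ * c⁻¹ := by group

/-- scaling of the inner coordinate -/
def scaleIn (t : B) : LieS.d2pt B f ⟶ LieS.d2pt B f :=
  Over.homMk (Spec.map (CommRingCat.ofHom (LieS.bcHom (LieS.scaleHom t)))) (by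
    change Spec.map _ ≫ Spec.map _ ≫ Spec.map _ ≫ f = Spec.map _ ≫ Spec.map _ ≫ f
    rw [← Category.assoc, ← Category.assoc, LieS.specMap_comp, LieS.specMap_comp, ← Category.assoc, LieS.specMap_comp]
    congr 3
    exact RingHom.ext fun b => by
      apply TrivSqZeroExt.ext <;> apply TrivSqZeroExt.ext <;>
        simp [LieS.scaleHom, LieS.bcHom, TrivSqZeroExt.algebraMap_eq_inl, DualNumber.snd_mul])

theorem scaleIn_outer (t : B) : scaleIn f t ≫ outer f = outer f := by
  unfold scaleIn
  d2_ext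

theorem scaleIn_mulMap (t : B) : scaleIn f t ≫ LieS.mulMap B f = LieS.mulMap B f ≫ LieS.scale B f t := by
  ext
  change Spec.map _ ≫ Spec.map _ = Spec.map _ ≫ Spec.map _
  rw [LieS.specMap_comp, LieS.specMap_comp]
  congr 2
  refine RingHom.ext fun x => ?_
  apply TrivSqZeroExt.ext <;> apply TrivSqZeroExt.ext <;>
    simp [LieS.scaleHom, LieS.bcHom, LieS.mulHom, LieS.toD2, TrivSqZeroExt.algebraMap_eq_inl, DualNumber.snd_mul,
      mul_comm]

theorem scaleIn_inner (t : B) : scaleIn f t ≫ inner f = inner f ≫ LieS.scale B f t := by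
  ext
  change Spec.map _ ≫ Spec.map _ = Spec.map _ ≫ Spec.map _
  rw [LieS.specMap_comp, LieS.specMap_comp]
  congr 2
  refine RingHom.ext fun x => ?_
  apply TrivSqZeroExt.ext <;> apply TrivSqZeroExt.ext <;>
    simp [LieS.scaleHom, LieS.bcHom, TrivSqZeroExt.algebraMap_eq_inl, DualNumber.snd_mul, mul_comm]

theorem br_smul_right (t : B) (x y : LieS.Lie G B f) : br f x (t • y) = t • br f x y := by
  refine br_eq f ?_
  have h := congrArg (scaleIn f t ≫ ·) (br_spec f x y)
  simp only [MonObj.comp_mul, GrpObj.comp_inv, ← Category.assoc, scaleIn_outer, scaleIn_mulMap, scaleIn_inner] at h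
  simpa only [LieS.smul_val, Category.assoc] using h

theorem br_inv (x y : LieS.Lie G B f) : br f y x = (br f x y)⁻¹ := by
  have h := br_self f (x * y)
  rw [br_mul_left, br_mul_right, br_mul_right, br_self, br_self, _root_.one_mul, _root_.mul_one] at h
  exact (inv_eq_of_mul_eq_one_right h).symm

theorem br_smul_left (t : B) (x y : LieS.Lie G B f) : br f (t • x) y = t • br f x y := by
  rw [br_inv f y (t • x), br_smul_right, br_inv f x y]
  refine inv_eq_of_mul_eq_one_left ?_
  rw [← smul_mul', mul_inv_cancel]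
  exact Subtype.ext (by rw [LieS.smul_val, Subgroup.coe_one, MonObj.comp_one])

theorem br_one (x : LieS.Lie G B f) : br f x 1 = 1 := by
  refine br_eq f ?_
  simp [MonObj.comp_one]

/-- base change of the iterated dual numbers -/
def d2Map {B' : Type u} [CommRing B'] (h : B →+* B') :
    LieS.d2pt B' (Spec.map (CommRingCat.ofHom h) ≫ f) ⟶ LieS.d2pt B f :=
  Over.homMk (Spec.map (CommRingCat.ofHom (LieS.bcHom (LieS.bcHom h)))) (by
    change Spec.map _ ≫ Spec.map _ ≫ Spec.map _ ≫ f = Spec.map _ ≫ Spec.map _ ≫ Spec.map _ ≫ f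
    simp only [← Category.assoc, LieS.specMap_comp]
    congr 3
    exact RingHom.ext fun b => by
      apply TrivSqZeroExt.ext <;> apply TrivSqZeroExt.ext <;>
        simp [LieS.bcHom, TrivSqZeroExt.algebraMap_eq_inl, DualNumber.snd_mul])

theorem pull_br {B' : Type u} [CommRing B'] (h : B →+* B') (x y : LieS.Lie G B f) :
    br (Spec.map (CommRingCat.ofHom h) ≫ f) (LieS.pull G f h x) (LieS.pull G f h y) = LieS.pull G f h (br f x y) := by
  have e : ∀ {a : LieS.d2pt B' (Spec.map (CommRingCat.ofHom h) ≫ f) ⟶ LieS.dpt B' (Spec.map (CommRingCat.ofHom h) ≫ f)}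
      {b : LieS.d2pt B f ⟶ LieS.dpt B f}, a ≫ LieS.dptMap f h = d2Map f h ≫ b →
      ∀ v : LieS.Lie G B f, a ≫ (LieS.pull G f h v).1 = d2Map f h ≫ b ≫ v.1 := by
    intro a b hab v
    change a ≫ LieS.dptMap f h ≫ v.1 = _
    rw [← Category.assoc, hab, Category.assoc]
  have e1 : outer (Spec.map (CommRingCat.ofHom h) ≫ f) ≫ LieS.dptMap f h = d2Map f h ≫ outer f := by
    ext
    change Spec.map _ ≫ Spec.map _ = Spec.map _ ≫ Spec.map _
    rw [LieS.specMap_comp, LieS.specMap_comp]
    congr 2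
    refine RingHom.ext fun x => ?_
    apply TrivSqZeroExt.ext <;> apply TrivSqZeroExt.ext <;>
      simp [LieS.bcHom, TrivSqZeroExt.algebraMap_eq_inl, DualNumber.snd_mul]
  have e2 : inner (Spec.map (CommRingCat.ofHom h) ≫ f) ≫ LieS.dptMap f h = d2Map f h ≫ inner f := by
    ext
    change Spec.map _ ≫ Spec.map _ = Spec.map _ ≫ Spec.map _
    rw [LieS.specMap_comp, LieS.specMap_comp]
    congr 2
    refine RingHom.ext fun x => ?_
    apply TrivSqZeroExt.ext <;> apply TrivSqZeroExt.ext <;>
      simp [LieS.bcHom, TrivSqZeroExt.algebraMap_eq_inl, DualNumber.snd_mul]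
  have e3 : LieS.mulMap B' (Spec.map (CommRingCat.ofHom h) ≫ f) ≫ LieS.dptMap f h = d2Map f h ≫ LieS.mulMap B f := by
    ext
    change Spec.map _ ≫ Spec.map _ = Spec.map _ ≫ Spec.map _
    rw [LieS.specMap_comp, LieS.specMap_comp]
    congr 2
    refine RingHom.ext fun x => ?_
    apply TrivSqZeroExt.ext <;> apply TrivSqZeroExt.ext <;>
      simp [LieS.bcHom, LieS.mulHom, LieS.toD2, TrivSqZeroExt.algebraMap_eq_inl, DualNumber.snd_mul]
  refine br_eq _ ?_
  rw [e e1, e e2, e e3, br_spec]
  simp only [MonObj.comp_mul, GrpObj.comp_inv]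

theorem inner_proj : inner f ≫ LieS.proj B f = outer f ≫ LieS.proj B f := by
  ext
  change Spec.map _ ≫ Spec.map _ = Spec.map _ ≫ Spec.map _
  rw [LieS.specMap_comp, LieS.specMap_comp]
  congr 2
  refine RingHom.ext fun x => ?_
  apply TrivSqZeroExt.ext <;> apply TrivSqZeroExt.ext <;> simp [LieS.bcHom, TrivSqZeroExt.algebraMap_eq_inl]

theorem mulMap_proj : LieS.mulMap B f ≫ LieS.proj B f = outer f ≫ LieS.proj B f := by
  ext
  change Spec.map _ ≫ Spec.map _ = Spec.map _ ≫ Spec.map _
  rw [LieS.specMap_comp, LieS.specMap_comp]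
  congr 2
  refine RingHom.ext fun x => ?_
  apply TrivSqZeroExt.ext <;> apply TrivSqZeroExt.ext <;>
    simp [LieS.bcHom, LieS.mulHom, LieS.toD2, TrivSqZeroExt.algebraMap_eq_inl, DualNumber.snd_mul]

theorem Ad_val (g : LieS.pt B f ⟶ G) (v : LieS.Lie G B f) :
    (LieS.Ad G B f g v).1 = (LieS.proj B f ≫ g) * v.1 * (LieS.proj B f ≫ g)⁻¹ := rfl

theorem Ad_br (g : LieS.pt B f ⟶ G) (x y : LieS.Lie G B f) :
    br f (LieS.Ad G B f g x) (LieS.Ad G B f g y) = LieS.Ad G B f g (br f x y) := by
  refine br_eq f ?_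
  simp only [Ad_val, MonObj.comp_mul, GrpObj.comp_inv, ← Category.assoc, inner_proj, mulMap_proj, br_spec]
  group

theorem mulMap_eq_scale : LieS.mulMap B f =
    (LieS.scale (DualNumber B) (LieS.dpt B f).hom DualNumber.eps : LieS.d2pt B f ⟶ LieS.d2pt B f) ≫ outer f := by
  ext
  change Spec.map _ = Spec.map _ ≫ Spec.map _
  rw [LieS.specMap_comp]
  congr 2
  refine RingHom.ext fun x => ?_
  apply TrivSqZeroExt.ext <;> apply TrivSqZeroExt.ext <;>
    simp [LieS.bcHom, LieS.scaleHom, LieS.mulHom, LieS.toD2, TrivSqZeroExt.algebraMap_eq_inl, DualNumber.snd_mul,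
      mul_comm]

/-- conjugation by a Lie algebra element, over the dual numbers -/
theorem Ad_lie (x w : LieS.Lie G B f) :
    (LieS.Ad G (DualNumber B) (LieS.dpt B f).hom x.1) (LieS.pull G f (algebraMap B (DualNumber B)) w) =
      (DualNumber.eps : DualNumber B) • LieS.pull G f (algebraMap B (DualNumber B)) (br f x w) *
        LieS.pull G f (algebraMap B (DualNumber B)) w := by
  refine Subtype.ext ?_
  rw [Subgroup.coe_mul, LieS.smul_val, Ad_val]
  have h : LieS.scale (DualNumber B) (LieS.dpt B f).hom DualNumber.eps ≫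
      (LieS.pull G f (algebraMap B (DualNumber B)) (br f x w)).1 = LieS.mulMap B f ≫ (br f x w).1 := by
    rw [mulMap_eq_scale, Category.assoc]
    rfl
  refine Eq.trans ?_ (congrArg (· * _) h.symm)
  rw [br_inv f w x, Subgroup.coe_inv, GrpObj.comp_inv, br_spec]
  change (inner f ≫ x.1) * (outer f ≫ w.1) * (inner f ≫ x.1)⁻¹ = _ * (outer f ≫ w.1)
  group

theorem eps_smul_eps_smul (v : LieS.Lie G (DualNumber B) (LieS.dpt B f).hom) :
    (DualNumber.eps : DualNumber B) • (DualNumber.eps : DualNumber B) • v = 1 := by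
  rw [← mul_smul', LieS.eps_sq, zero_smul']

theorem jacobi (x y z : LieS.Lie G B f) : br f x (br f y z) = br f (br f x y) z * br f y (br f x z) := by
  let a := algebraMap B (DualNumber B)
  let p : LieS.Lie G B f →* LieS.Lie G (DualNumber B) (LieS.dpt B f).hom := LieS.pull G f a
  have hp : ∀ u v, br (LieS.dpt B f).hom (p u) (p v) = p (br f u v) := pull_br f a
  have hA : ∀ w, LieS.Ad G (DualNumber B) (LieS.dpt B f).hom x.1 (p w) =
      (DualNumber.eps : DualNumber B) • p (br f x w) * p w := Ad_lie f x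
  have key := Ad_br (LieS.dpt B f).hom x.1 (p y) (p z)
  rw [hp, hA, hA, hA, br_mul_left, br_mul_right, br_mul_right, br_smul_left, br_smul_left, br_smul_right,
    eps_smul_eps_smul, br_smul_right, hp, hp, hp, _root_.one_mul, ← _root_.mul_assoc, mul_left_inj, ← smul_mul',
    ← map_mul] at key
  refine eq_of_mulMap_eq f ?_
  rw [mulMap_eq_scale, Category.assoc, Category.assoc]
  exact (congrArg Subtype.val key).symm

end Group

end

end Groth.Agent.H20Lie
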